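import Cfsg.Agent.Helper61.Sr.Basic

/-!
# (T5b) of helper61's S3572 farm (#11950): Wielandt's counting inequality for S-rings
-/

set_option autoImplicit false
set_option linter.unusedSectionVars false
set_option linter.unusedVariables false

namespace Cfsg.Agent.Helper89.Sr

open Finset DihedralGroup Cfsg.Agent.Helper61.Sr Cfsg.Agent.Helper61.Dih

section General

variable {H : Type*} [Group H] [Fintype H] [DecidableEq H] (S : SRing H)

/-- the inverse of an `S`-set is an `S`-set -/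
theorem isSet_image_inv {T : Finset H} (hT : S.IsSet T) : S.IsSet (T.image fun t => t⁻¹) := by
  intro x y hxy
  have h := hT x⁻¹ y⁻¹ (S.inv_rel hxy)
  have e : ∀ z : H, z ∈ T.image (fun t => t⁻¹) ↔ z⁻¹ ∈ T := by
    intro z
    simp only [mem_image]
    constructor
    · rintro ⟨t, ht, rfl⟩
      rwa [inv_inv]
    · intro hz
      exact ⟨z⁻¹, hz, inv_inv z⟩
  rw [e, e]
  exact h

/-- `lam x = #{t ∈ T | x⁻¹ t ∈ T}` is a coefficient of `ind T * ind T⁻¹` -/
theorem lam_eq_coeff (T : Finset H) (x : H) :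
    ((T.filter fun t => x⁻¹ * t ∈ T).card : ℤ) =
      (ind T * ind (T.image fun t => t⁻¹)).coeff x := by
  rw [coeff_ind_mul_ind]
  congr 2
  ext t
  simp only [mem_filter, mem_image]
  constructor
  · rintro ⟨ht, h⟩
    exact ⟨ht, x⁻¹ * t, h, by rw [mul_inv_rev, inv_inv]⟩
  · rintro ⟨ht, s, hs, hst⟩
    refine ⟨ht, ?_⟩
    have : x⁻¹ * t = s := by
      rw [← inv_inj, mul_inv_rev, inv_inv, hst]
    rw [this]
    exact hs

/-- `lam` is constant on the basic sets -/
theorem lam_rel {T : Finset H} (hT : S.IsSet T) (x y : H) (hxy : S.rel x y) :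
    (T.filter fun t => x⁻¹ * t ∈ T).card = (T.filter fun t => y⁻¹ * t ∈ T).card := by
  have h := inv_mul S (inv_ind S hT) (inv_ind S (isSet_image_inv S hT)) x y hxy
  rw [← lam_eq_coeff, ← lam_eq_coeff] at h
  exact_mod_cast h

theorem lam_sum' (T : Finset H) :
    ∑ x : H, (T.filter fun t => x⁻¹ * t ∈ T).card = T.card ^ 2 := by
  simp only [Finset.card_filter]
  rw [Finset.sum_comm]
  have : ∀ t ∈ T, ∑ x : H, (if x⁻¹ * t ∈ T then 1 else 0) = T.card := by
    intro t _
    have e := Equiv.sum_comp ((Equiv.inv H).trans (Equiv.mulRight t))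
      (fun y => if y ∈ T then 1 else 0)
    simp only [Equiv.trans_apply, Equiv.inv_apply, Equiv.coe_mulRight] at e
    rw [e]
    simp
  rw [Finset.sum_congr rfl this, Finset.sum_const, smul_eq_mul, sq]

/-- (T5b) -/
theorem T5b (P : Subgroup H) [DecidablePred (· ∈ P)]
    (hper : ∀ T : Finset H, S.IsSet T → ∀ x ∈ T, x ∉ P → ∀ k ∈ P, k * x ∈ T)
    (h5a : ∀ T : Finset H, S.IsSet T → T.Nonempty → (1 : H) ∉ T → ∃ t ∈ T, t ∈ P)
    (T : Finset H) (hT : S.IsSet T) :
    (Fintype.card H - 1) * (T.filter fun t => t ∉ P).card + T.card ≤ T.card ^ 2 := by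
  classical
  rw [← lam_sum' T, ← Finset.add_sum_erase Finset.univ _ (Finset.mem_univ (1 : H))]
  have h0 : (T.filter fun t => (1 : H)⁻¹ * t ∈ T).card = T.card := by
    congr 1
    apply Finset.filter_true_of_mem
    intro t ht
    simpa using ht
  rw [h0, add_comm]
  apply Nat.add_le_add_left
  have hc : (Finset.univ.erase (1 : H)).card = Fintype.card H - 1 := by
    rw [Finset.card_erase_of_mem (Finset.mem_univ _), Finset.card_univ]
  rw [← hc, ← smul_eq_mul]
  apply Finset.card_nsmul_le_sum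
  intro x hx
  have hx1 : x ≠ 1 := Finset.ne_of_mem_erase hx
  obtain ⟨k, hk, hkP⟩ := h5a (S.cls x) (isSet_cls S x) ⟨x, self_mem_cls S x⟩ (one_notMem_cls S hx1)
  have hxk : S.rel x k := (mem_cls S x k).mp hk
  rw [lam_rel S hT x k hxk]
  apply Finset.card_le_card
  intro t ht
  simp only [Finset.mem_filter] at ht ⊢
  exact ⟨ht.1, hper T hT t ht.1 ht.2 k⁻¹ (inv_mem hkP)⟩

end General

end Cfsg.Agent.Helper89.Sr
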