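import Cfsg.Agent.Helper61.Sr.Basic
import Cfsg.Agent.Helper89.Sr.T5b

/-!
# (G4+T5a) of helper61's S3572 farm (#11950)

`prim_subgroup`: an `S`-subgroup of a primitive S-ring is trivial.
`T5a`: every nonempty `S`-set avoiding `1` meets `P`.
-/

set_option autoImplicit false
set_option linter.unusedSectionVars false
set_option linter.unusedVariables false

namespace Cfsg.Agent.Helper89.Sr

open Finset DihedralGroup Cfsg.Agent.Helper61.Sr Cfsg.Agent.Helper61.Dih

section General

variable {H : Type*} [Group H] [Fintype H] [DecidableEq H] (S : SRing H)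

/-- (G4) an `S`-subgroup of a primitive S-ring is trivial -/
theorem prim_subgroup (hS : S.IsPrim) (K : Subgroup H)
    (hK : ∀ x y, S.rel x y → (x ∈ K ↔ y ∈ K)) : K = ⊥ ∨ K = ⊤ := by
  classical
  by_cases hb : K = ⊥
  · exact Or.inl hb
  · right
    obtain ⟨k, hkK, hk1⟩ := (Subgroup.ne_bot_iff_exists_ne_one.mp hb |> fun ⟨⟨k, hk⟩, h⟩ =>
      (⟨k, hk, fun h' => h (Subtype.ext h')⟩ : ∃ k : H, k ∈ K ∧ k ≠ 1))
    set T : Finset H := (Finset.univ.filter fun x => x ∈ K) \ {1} with hT
    have hTS : S.IsSet T := by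
      apply isSet_sdiff S _ (isSet_one S)
      intro x y hxy
      simp only [mem_filter, mem_univ, true_and]
      exact hK x y hxy
    have hne : T.Nonempty := ⟨k, by simp [hT, hkK, hk1]⟩
    have h1 : (1 : H) ∉ T := by simp [hT]
    have hcl := hS T hTS hne h1
    rw [eq_top_iff, ← hcl, Subgroup.closure_le]
    intro x hx
    have hx' : x ∈ T := hx
    simp only [hT, mem_sdiff, mem_filter, mem_univ, true_and] at hx'
    exact hx'.1

/-- the left stabilizer of a finite set -/
def lstab (T : Finset H) : Subgroup H where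
  carrier := {g | ∀ t : H, t ∈ T ↔ g * t ∈ T}
  one_mem' := fun t => by rw [one_mul]
  mul_mem' := by
    intro g h hg hh t
    rw [mul_assoc, ← hg (h * t)]
    exact hh t
  inv_mem' := by
    intro g hg t
    have := hg (g⁻¹ * t)
    rw [mul_inv_cancel_left] at this
    exact this.symm

theorem mem_lstab_iff (T : Finset H) (g : H) : g ∈ lstab T ↔ ∀ t ∈ T, g * t ∈ T := by
  constructor
  · intro hg t ht
    exact (hg t).mp ht
  · intro hg t
    constructor
    · exact hg t
    · intro hgt
      have himg : T.image (fun s => g * s) = T := by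
        apply Finset.eq_of_subset_of_card_le
        · intro s hs
          obtain ⟨u, hu, rfl⟩ := Finset.mem_image.mp hs
          exact hg u hu
        · rw [Finset.card_image_of_injective _ (mul_right_injective g)]
      rw [← himg] at hgt
      obtain ⟨u, hu, hgu⟩ := Finset.mem_image.mp hgt
      have : u = t := mul_left_cancel hgu
      exact this ▸ hu

theorem mem_lstab_iff_lam (T : Finset H) (x : H) :
    x ∈ lstab T ↔ (T.filter fun t => x⁻¹ * t ∈ T).card = T.card := by
  rw [← inv_mem_iff, mem_lstab_iff]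
  constructor
  · intro h
    congr 1
    exact Finset.filter_true_of_mem h
  · intro h t ht
    have := (Finset.filter_eq_self).mp (Finset.eq_of_subset_of_card_le (Finset.filter_subset _ T)
      (le_of_eq h.symm))
    exact this t ht

/-- (T5a) -/
theorem T5a (hS : S.IsPrim) (P : Subgroup H) (hP : P ≠ ⊥)
    (hper : ∀ T : Finset H, S.IsSet T → ∀ x ∈ T, x ∉ P → ∀ k ∈ P, k * x ∈ T)
    (T : Finset H) (hT : S.IsSet T) (hne : T.Nonempty) (h1 : (1 : H) ∉ T) : ∃ t ∈ T, t ∈ P := by
  classical
  by_contra hcon
  have hall : ∀ t ∈ T, t ∉ P := fun t ht htP => hcon ⟨t, ht, htP⟩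
  have hPL : P ≤ lstab T := by
    intro k hk
    rw [mem_lstab_iff]
    intro t ht
    exact hper T hT t ht (hall t ht) k hk
  have hLS : ∀ x y, S.rel x y → (x ∈ lstab T ↔ y ∈ lstab T) := by
    intro x y hxy
    rw [mem_lstab_iff_lam, mem_lstab_iff_lam, lam_rel S hT x y hxy]
  rcases prim_subgroup S hS (lstab T) hLS with h | h
  · apply hP
    rw [eq_bot_iff, ← h]
    exact hPL
  · obtain ⟨t, ht⟩ := hne
    have : t⁻¹ ∈ lstab T := by rw [h]; exact Subgroup.mem_top _
    have := (mem_lstab_iff T t⁻¹).mp this t ht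
    rw [inv_mul_cancel] at this
    exact h1 this

end General

end Cfsg.Agent.Helper89.Sr
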