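import Cfsg.Agent.Helper61.Sr.Basic

/-!
# (T5fin) of helper61's S3572 farm (#11950): assembly of Wielandt's counting argument
-/

set_option autoImplicit false
set_option linter.unusedSectionVars false
set_option linter.unusedVariables false

namespace Cfsg.Agent.Helper89.Sr

open Finset DihedralGroup Cfsg.Agent.Helper61.Sr Cfsg.Agent.Helper61.Dih

section General

variable {H : Type*} [Group H] [Fintype H] [DecidableEq H] (S : SRing H)

theorem T5_key (a b t' : ℕ) (hab : a < b) (hI : (a + b + t') * b + (a + b) ≤ (a + b) ^ 2) :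
    t' < a + b := by
  have e₁ : (a + b) ^ 2 = (a + b) * a + (a + b) * b := by ring
  have e₂ : (a + b + t') * b = (a + b) * b + t' * b := by ring
  have k₁ : t' * b + (a + b) ≤ (a + b) * a := by omega
  have k₂ : (a + b) * a + (a + b) ≤ (a + b) * b := by
    have h := Nat.mul_le_mul_left (a + b) hab
    have e₃ : (a + b) * (a + 1) = (a + b) * a + (a + b) := by ring
    rw [Nat.succ_eq_add_one, e₃] at h
    exact h
  have k₃ : t' * b < (a + b) * b := by omega
  exact lt_of_mul_lt_mul_right k₃ (Nat.zero_le _)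

/-- (T5fin) -/
theorem T5fin (P : Subgroup H) [DecidablePred (· ∈ P)]
    (h5b : ∀ T : Finset H, S.IsSet T →
      (Fintype.card H - 1) * (T.filter fun t => t ∉ P).card + T.card ≤ T.card ^ 2)
    (h5c : ∀ T : Finset H, S.IsSet T → T.Nonempty → (1 : H) ∉ T →
      (T.filter fun t => t ∈ P).card < (T.filter fun t => t ∉ P).card) : S.IsTriv := by
  classical
  intro x₀ y₀ hx₀ hy₀
  by_contra hcon
  have hy₀' : y₀ ∉ S.cls x₀ := fun h => hcon ((mem_cls S x₀ y₀).mp h)
  set T₁ := S.cls x₀ with hT₁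
  set T₂ : Finset H := (Finset.univ \ {1}) \ T₁ with hT₂
  have hS₁ : S.IsSet T₁ := isSet_cls S x₀
  have hS₂ : S.IsSet T₂ := isSet_sdiff S (isSet_sdiff S (isSet_univ S) (isSet_one S)) hS₁
  have h1₁ : (1 : H) ∉ T₁ := one_notMem_cls S hx₀
  have h1₂ : (1 : H) ∉ T₂ := by simp [hT₂]
  have hne₁ : T₁.Nonempty := ⟨x₀, self_mem_cls S x₀⟩
  have hne₂ : T₂.Nonempty := ⟨y₀, by simp [hT₂, hy₀, hy₀']⟩
  have hsum : T₁.card + T₂.card = Fintype.card H - 1 := by
    have hdisj : Disjoint T₁ T₂ := by
      rw [Finset.disjoint_left]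
      intro a ha ha'
      simp only [hT₂, Finset.mem_sdiff] at ha'
      exact ha'.2 ha
    have hunion : T₁ ∪ T₂ = Finset.univ.erase (1 : H) := by
      ext a
      simp only [hT₂, Finset.mem_union, Finset.mem_sdiff, Finset.mem_univ, true_and,
        Finset.mem_erase, and_true, Finset.mem_singleton]
      constructor
      · rintro (h | h)
        · exact fun h' => h1₁ (h' ▸ h)
        · exact h.1
      · intro h
        by_cases ha : a ∈ T₁
        · exact Or.inl ha
        · exact Or.inr ⟨h, ha⟩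
    rw [← Finset.card_union_of_disjoint hdisj, hunion,
      Finset.card_erase_of_mem (Finset.mem_univ _), Finset.card_univ]
  have hI₁ := h5b T₁ hS₁
  have hI₂ := h5b T₂ hS₂
  have hL₁ := h5c T₁ hS₁ hne₁ h1₁
  have hL₂ := h5c T₂ hS₂ hne₂ h1₂
  have hs₁ := Finset.card_filter_add_card_filter_not (s := T₁) (fun t => t ∈ P)
  have hs₂ := Finset.card_filter_add_card_filter_not (s := T₂) (fun t => t ∈ P)
  rw [← hsum] at hI₁ hI₂
  generalize T₁.card = t₁ at *
  generalize T₂.card = t₂ at *
  generalize (T₁.filter fun t => t ∈ P).card = a₁ at *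
  generalize (T₂.filter fun t => t ∈ P).card = a₂ at *
  generalize (T₁.filter fun t => t ∉ P).card = b₁ at *
  generalize (T₂.filter fun t => t ∉ P).card = b₂ at *
  subst hs₁ hs₂
  have lt₁ := T5_key a₁ b₁ (a₂ + b₂) hL₁ hI₁
  have lt₂ := T5_key a₂ b₂ (a₁ + b₁) hL₂ (by rw [add_comm (a₂ + b₂) (a₁ + b₁)]; exact hI₂)
  omega

end General

end Cfsg.Agent.Helper89.Sr
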