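import Cfsg.Agent.Helper61.Sr.P2

/-!
# (RC2_of) of helper61's S3572 farm, layer 3 (#12003)

`n = 2 ^ a`, `a ≥ 2`: the rational closure of the rotation part of every nonempty `S`-set avoiding
`1` is everything nonzero.
-/

set_option autoImplicit false
set_option linter.unusedSectionVars false
set_option linter.unusedVariables false

namespace Cfsg.Agent.Helper89.Sr

open Finset DihedralGroup Cfsg.Agent.Helper61.Sr Cfsg.Agent.Helper61.Dih

section Dihedral

variable {n : ℕ} [NeZero n] (S : SRing (DihedralGroup n))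

/-- the `2`-torsion of `ZMod n`, `n` even -/
theorem two_tor_zmod (hn2 : 2 ∣ n) (u : ZMod n) (hu : 2 • u = 0) :
    u = 0 ∨ u = ((n / 2 : ℕ) : ZMod n) := by
  have hpos : 0 < n := Nat.pos_of_ne_zero (NeZero.ne n)
  have h1 : ((2 * u.val : ℕ) : ZMod n) = 0 := by
    rw [Nat.cast_mul, ZMod.natCast_zmod_val, Nat.cast_ofNat, two_mul, ← two_nsmul]
    exact hu
  rw [ZMod.natCast_eq_zero_iff] at h1
  have hlt : u.val < n := ZMod.val_lt u
  obtain ⟨k, hk⟩ := h1
  obtain ⟨m, hm⟩ := hn2
  have hk2 : k = 0 ∨ k = 1 := by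
    have : n * k < n * 2 := by omega
    have : k < 2 := lt_of_mul_lt_mul_left this (Nat.zero_le _)
    omega
  rcases hk2 with rfl | rfl
  · left
    have : u.val = 0 := by omega
    exact (ZMod.val_eq_zero u).mp this
  · right
    have h2 : u.val = n / 2 := by omega
    rw [← h2, ZMod.natCast_zmod_val]

theorem half_add_half (hn2 : 2 ∣ n) :
    ((n / 2 : ℕ) : ZMod n) + ((n / 2 : ℕ) : ZMod n) = 0 := by
  rw [← Nat.cast_add]
  have : n / 2 + n / 2 = n := by omega
  rw [this, ZMod.natCast_self]

/-- (RC2) -/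
theorem RC2_of (a : ℕ) (hna : n = 2 ^ a) (ha : 2 ≤ a) (hS : S.IsPrim)
    (hBAD : ∀ R : Finset (DihedralGroup n), S.IsSet R → R.Nonempty →
      (1 : DihedralGroup n) ∉ R → Rational (rotPart R) → Per 2 (rotPart R) → False)
    (T : Finset (DihedralGroup n)) (hT : S.IsSet T) (hne : T.Nonempty)
    (h1 : (1 : DihedralGroup n) ∉ T) (x : ZMod n) (hx : x ≠ 0) :
    ∃ u : (ZMod n)ˣ, ∃ i ∈ rotPart T, (u : ZMod n) * i = x := by
  classical
  have hn4 : 4 ≤ n := by
    rw [hna]
    calc 4 = 2 ^ 2 := by norm_num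
      _ ≤ 2 ^ a := Nat.pow_le_pow_right (by norm_num) ha
  have hn3 : 3 ≤ n := by omega
  have hn2 : 2 ∣ n := by
    rw [hna]
    exact dvd_pow_self 2 (by omega)
  obtain ⟨R, hRS, hR1, hR⟩ := RAT S hn3 hS T hT h1
  -- it suffices to show `x ∈ rotPart R`
  suffices hmem : x ∈ rotPart R from (hR x).mp hmem
  set A := rotPart R with hA
  have h0A : (0 : ZMod n) ∉ A := by
    rw [hA, mem_rotPart, r_zero]
    exact hR1
  have hrat : Rational A := by
    intro v y hy
    obtain ⟨u, i, hi, rfl⟩ := (hR y).mp hy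
    exact (hR _).mpr ⟨v * u, i, hi, by rw [Units.val_mul, mul_assoc]⟩
  -- `R` is nonempty
  obtain ⟨i₀, hi₀⟩ := F1' S (by omega) hS T hT hne h1
  have hRne : R.Nonempty := by
    have : i₀ ∈ A := (hR i₀).mpr ⟨1, i₀, mem_rotPart.mpr hi₀, by rw [Units.val_one, one_mul]⟩
    exact ⟨r i₀, mem_rotPart.mp this⟩
  have hpow : ∀ y : ZMod n, (2 ^ a) • y = 0 := by
    intro y
    rw [← hna, nsmul_eq_mul, ZMod.natCast_self, zero_mul]
  set h := ((n / 2 : ℕ) : ZMod n) with hh
  have hhh : h + h = 0 := half_add_half hn2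
  have h2h : 2 • h = 0 := by rw [two_nsmul]; exact hhh
  -- `PerOff 2 A`, one direction
  have hstep : ∀ y : ZMod n, 2 • y ≠ 0 → y ∈ A → y + h ∈ A := by
    intro y hy2 hyA
    obtain ⟨v, hv⟩ := unit_add_half hn2 y a (hpow y) hy2
    rw [← hv]
    exact hrat v y hyA
  have hiff : ∀ y : ZMod n, 2 • y ≠ 0 → (y ∈ A ↔ y + h ∈ A) := by
    intro y hy2
    refine ⟨hstep y hy2, fun hyh => ?_⟩
    have hy2' : 2 • (y + h) ≠ 0 := by
      rw [smul_add, h2h, add_zero]
      exact hy2
    have := hstep (y + h) hy2' hyh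
    rwa [add_assoc, hhh, add_zero] at this
  by_cases hhA : h ∈ A
  · -- the complement
    set S' : Finset (DihedralGroup n) := Finset.univ \ insert 1 R with hS'
    have hS'S : S.IsSet S' := isSet_sdiff S (isSet_univ S) (isSet_insert_one S hRS)
    have h1S' : (1 : DihedralGroup n) ∉ S' := by simp [hS']
    have hmemS' : ∀ y : ZMod n, y ∈ rotPart S' ↔ y ≠ 0 ∧ y ∉ A := by
      intro y
      rw [mem_rotPart, hS', Finset.mem_sdiff, Finset.mem_insert, hA, mem_rotPart]
      simp only [Finset.mem_univ, true_and, not_or]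
      constructor
      · rintro ⟨hy1, hyR⟩
        refine ⟨fun hy0 => hy1 ?_, hyR⟩
        rw [hy0, r_zero]
      · rintro ⟨hy0, hyR⟩
        refine ⟨fun hy1 => hy0 ?_, hyR⟩
        have : r y = r (0 : ZMod n) := by rw [hy1, r_zero]
        exact r.inj this
    have hratS' : Rational (rotPart S') := by
      intro v y hy
      rw [hmemS'] at hy ⊢
      refine ⟨fun h0 => hy.1 ?_, fun hvy => hy.2 ?_⟩
      · have := congrArg (fun z => ((v⁻¹ : (ZMod n)ˣ) : ZMod n) * z) h0
        simpa using this
      · have := hrat v⁻¹ _ hvy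
        rwa [← mul_assoc, Units.inv_mul, one_mul] at this
    have hperS' : Per 2 (rotPart S') := by
      intro y u hu
      rcases two_tor_zmod hn2 u hu with rfl | rfl
      · rw [add_zero]
      · rw [hmemS', hmemS']
        by_cases hy2 : 2 • y = 0
        · rcases two_tor_zmod hn2 y hy2 with rfl | rfl
          · rw [zero_add]
            constructor
            · intro hc; exact absurd rfl hc.1
            · intro hc; exact absurd hhA hc.2
          · rw [hhh]
            constructor
            · intro hc; exact absurd hhA hc.2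
            · intro hc; exact absurd rfl hc.1
        · have hne0 : y ≠ 0 := by
            rintro rfl
            exact hy2 (smul_zero _)
          have hne0' : y + h ≠ 0 := by
            intro hc
            apply hy2
            have : y = -h := eq_neg_of_add_eq_zero_left hc
            rw [this, smul_neg, h2h, neg_zero]
          rw [hiff y hy2]
          constructor
          · intro hc; exact ⟨hne0', hc.2⟩
          · intro hc; exact ⟨hne0, hc.2⟩
    by_contra hxA
    exact hBAD S' hS'S ⟨r x, mem_rotPart.mp ((hmemS' x).mpr ⟨hx, hxA⟩)⟩ h1S' hratS' hperS'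
  · exfalso
    have hperA : Per 2 A := by
      intro y u hu
      rcases two_tor_zmod hn2 u hu with rfl | rfl
      · rw [add_zero]
      · by_cases hy2 : 2 • y = 0
        · rcases two_tor_zmod hn2 y hy2 with rfl | rfl
          · rw [zero_add]
            exact ⟨fun hc => absurd hc h0A, fun hc => absurd hc hhA⟩
          · rw [hhh]
            exact ⟨fun hc => absurd hc hhA, fun hc => absurd hc h0A⟩
        · exact hiff y hy2
    exact hBAD R hRS hRne hR1 hrat hperA

end Dihedral

end Cfsg.Agent.Helper89.Sr
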